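import Cfsg.Agent.H209.PiSpor.Row
import Cfsg.Agent.H588.PQR.Ratio
import Cfsg.Agent.H680.Six.Card
import Cfsg.Agent.S2351

/-!
# S4324, task COV (helper96)

* `sum_prod` : `Σ_f χ((∏ f_i g f_i⁻¹) w) = (|G| χ(g) / χ(1))^k χ(w)`;
* `exists_eq_prod_conj` : every element is a product of `k` conjugates of `g` if `|C(g)|^k < d^(2(k-2))`, `d` the smallest
  nontrivial degree;
* `ni_of_cov` : the kill of S4324.
-/

set_option autoImplicit false

namespace Cfsg.Agent.H96.PiSpor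

open Subgroup Cfsg Cfsg.Agent.H216.Pi Cfsg.Agent.H209.PiSpor
open Cfsg.Agent.Characters Cfsg.Agent.Characters.Core Cfsg.Agent.Characters.Central
open scoped ComplexConjugate

universe u

/-- `Σ_f χ((∏ f_i g f_i⁻¹) w) = (|G| χ(g) / χ(1))^k χ(w)` -/
theorem sum_prod {K : Type u} [Group K] [Fintype K] {χ : K → ℂ} (hχ : IsIrrCharacter K χ) (g w : K) (k : ℕ) :
    ∑ f : Fin k → K, χ ((List.ofFn fun i => f i * g * (f i)⁻¹).prod * w) =
      ((Nat.card K : ℂ) * χ g / χ 1) ^ k * χ w := by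
  induction k with
  | zero => simp
  | succ k ih =>
    rw [← (Fin.consEquiv (fun _ : Fin (k + 1) => K)).sum_comp, Fintype.sum_prod_type, Finset.sum_comm]
    have h1 : ∀ f : Fin k → K, ∑ a : K, χ ((List.ofFn fun i => (Fin.consEquiv (fun _ : Fin (k + 1) => K)) (a, f) i * g *
        ((Fin.consEquiv (fun _ : Fin (k + 1) => K)) (a, f) i)⁻¹).prod * w) =
        ((Nat.card K : ℂ) * χ g / χ 1) * χ ((List.ofFn fun i => f i * g * (f i)⁻¹).prod * w) := by
      intro f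
      have h2 : ∀ a : K, (List.ofFn fun i => (Fin.consEquiv (fun _ : Fin (k + 1) => K)) (a, f) i * g *
          ((Fin.consEquiv (fun _ : Fin (k + 1) => K)) (a, f) i)⁻¹).prod * w =
          a * g * a⁻¹ * ((List.ofFn fun i => f i * g * (f i)⁻¹).prod * w) := by
        intro a
        rw [List.ofFn_succ, List.prod_cons, mul_assoc]
        rfl
      simp only [h2]
      rw [sum_char_conj_mul hχ]
      ring
    rw [Finset.sum_congr rfl fun f _ => h1 f, ← Finset.mul_sum, ih, pow_succ]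
    ring

theorem norm_irr_le {K : Type u} [Group K] [Finite K] {χ : K → ℂ} (hχ : IsIrrCharacter K χ) (g : K) :
    ‖χ g‖ ≤ ‖χ 1‖ := by
  obtain ⟨n, ρ, -, rfl⟩ := hχ
  refine (Values.norm_character_le ρ g).trans ?_
  rw [Representation.char_one]
  simp

theorem exists_eq_prod_conj {K : Type u} [Group K] [Finite K] {d c k : ℕ}
    (hd : ∀ χ : K → ℂ, IsIrrCharacter K χ → χ ≠ (fun _ => 1) → ∃ n : ℕ, χ 1 = n ∧ d ≤ n)
    {g : K} (hc : Nat.card (centralizer ({g} : Set K)) ≤ c) (hk : 2 ≤ k) (hck : c ^ k < d ^ (2 * (k - 2))) (z : K) :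
    ∃ f : Fin k → K, z = (List.ofFn fun i => f i * g * (f i)⁻¹).prod := by
  classical
  have := Fintype.ofFinite K
  have := finite_irr (G := K)
  have := Fintype.ofFinite (IrrCharacter K)
  obtain ⟨j, rfl⟩ : ∃ j, k = j + 2 := ⟨k - 2, by omega⟩
  rw [Nat.add_sub_cancel] at hck
  by_contra hno
  push Not at hno
  have hne : (Nat.card K : ℂ) ≠ 0 := card_ne_zero_complex
  -- the count vanishes
  have h1 : ∑ f : Fin (j + 2) → K, (if (List.ofFn fun i => f i * g * (f i)⁻¹).prod * z⁻¹ = 1 then (1 : ℂ) else 0) = 0 := by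
    refine Finset.sum_eq_zero fun f _ => if_neg fun h => hno f ?_
    exact (mul_inv_eq_one.1 h).symm
  simp only [Counting.ite_eq_one] at h1
  rw [← Finset.mul_sum, Finset.sum_comm] at h1
  have h2 : ∀ χ : IrrCharacter K, ∑ f : Fin (j + 2) → K, (χ : K → ℂ) 1 *
      (χ : K → ℂ) ((List.ofFn fun i => f i * g * (f i)⁻¹).prod * z⁻¹) =
      (Nat.card K : ℂ) ^ (j + 2) * ((χ : K → ℂ) 1 * ((χ : K → ℂ) g / (χ : K → ℂ) 1) ^ (j + 2) * (χ : K → ℂ) z⁻¹) := by
    intro χ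
    rw [← Finset.mul_sum, sum_prod χ.2, mul_div_assoc, mul_pow]
    ring
  rw [Finset.sum_congr rfl fun χ _ => h2 χ, ← Finset.mul_sum] at h1
  have h3 : ∑ χ : IrrCharacter K, ((χ : K → ℂ) 1 * ((χ : K → ℂ) g / (χ : K → ℂ) 1) ^ (j + 2) * (χ : K → ℂ) z⁻¹) = 0 := by
    rcases mul_eq_zero.1 h1 with h | h
    · exact (inv_ne_zero hne h).elim
    · rcases mul_eq_zero.1 h with h | h
      · exact (pow_ne_zero _ hne h).elim
      · exact h
  rw [← Finset.add_sum_erase _ _ (Finset.mem_univ (H588.Ratio.one : IrrCharacter K))] at h3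
  have h4 : ((H588.Ratio.one : IrrCharacter K) : K → ℂ) 1 *
      (((H588.Ratio.one : IrrCharacter K) : K → ℂ) g / ((H588.Ratio.one : IrrCharacter K) : K → ℂ) 1) ^ (j + 2) *
      ((H588.Ratio.one : IrrCharacter K) : K → ℂ) z⁻¹ = 1 := by
    simp [H588.Ratio.one]
  rw [h4] at h3
  -- the bound
  set C : ℝ := (Nat.card (centralizer ({g} : Set K)) : ℝ) with hC
  have hC1 : 1 ≤ C := by
    rw [hC]
    exact_mod_cast Nat.card_pos
  have hCc : C ≤ c := by
    rw [hC]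
    exact_mod_cast hc
  have hcpos : (0 : ℝ) < c := lt_of_lt_of_le one_pos (hC1.trans hCc)
  have hcN : 1 ≤ c := by exact_mod_cast (hC1.trans hCc)
  have hd0 : 0 < d := by
    rcases Nat.eq_zero_or_pos d with h | h
    · exfalso
      have h5 : 1 ≤ c ^ (j + 2) := Nat.one_le_pow _ _ hcN
      rw [h] at hck
      have h6 : (0 : ℕ) ^ (2 * j) ≤ 1 := by
        rcases Nat.eq_zero_or_pos (2 * j) with h7 | h7
        · rw [h7, pow_zero]
        · rw [zero_pow h7.ne']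
          exact Nat.zero_le 1
      omega
    · exact h
  have hdR : (0 : ℝ) < d := by exact_mod_cast hd0
  set s : ℝ := Real.sqrt c with hs
  have hs2 : s ^ 2 = c := Real.sq_sqrt hcpos.le
  have hs0 : 0 < s := Real.sqrt_pos.2 hcpos
  have h5 : ∀ χ ∈ Finset.univ.erase (H588.Ratio.one : IrrCharacter K),
      ‖(χ : K → ℂ) 1 * ((χ : K → ℂ) g / (χ : K → ℂ) 1) ^ (j + 2) * (χ : K → ℂ) z⁻¹‖ ≤
        (s / d) ^ j * ‖(χ : K → ℂ) g‖ ^ 2 := by
    intro χ hχ
    have h6 : (χ : K → ℂ) ≠ fun _ => 1 := by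
      intro h
      exact (Finset.mem_erase.1 hχ).1 (Subtype.ext h)
    obtain ⟨n, hn, hdn⟩ := hd χ χ.2 h6
    have h7 : ‖(χ : K → ℂ) 1‖ = n := by rw [hn]; simp
    have hnR : (d : ℝ) ≤ n := by exact_mod_cast hdn
    have hn0 : (0 : ℝ) < n := lt_of_lt_of_le hdR hnR
    have h8 : ‖(χ : K → ℂ) z⁻¹‖ ≤ n := by
      rw [← h7]
      exact norm_irr_le χ.2 _
    have h9 : ‖(χ : K → ℂ) g‖ ≤ s := by
      refine Real.le_sqrt_of_sq_le ?_
      exact (H588.Ratio.norm_sq_le χ.2 g).trans hCc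
    rw [norm_mul, norm_mul, norm_pow, norm_div, h7]
    have h10 : (‖(χ : K → ℂ) g‖ / n) ^ j ≤ (s / d) ^ j := by
      apply pow_le_pow_left₀ (by positivity)
      exact div_le_div₀ hs0.le h9 hdR hnR
    calc (n : ℝ) * (‖(χ : K → ℂ) g‖ / n) ^ (j + 2) * ‖(χ : K → ℂ) z⁻¹‖
        ≤ (n : ℝ) * (‖(χ : K → ℂ) g‖ / n) ^ (j + 2) * n := by
          apply mul_le_mul_of_nonneg_left h8
          positivity
      _ = (‖(χ : K → ℂ) g‖ / n) ^ j * ‖(χ : K → ℂ) g‖ ^ 2 := by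
          rw [pow_add]
          field_simp
      _ ≤ (s / d) ^ j * ‖(χ : K → ℂ) g‖ ^ 2 := by
          apply mul_le_mul_of_nonneg_right h10
          positivity
  have h6 : (1 : ℝ) ≤ (s / d) ^ j * (C - 1) := by
    have h7 : ‖∑ χ ∈ Finset.univ.erase (H588.Ratio.one : IrrCharacter K), (χ : K → ℂ) 1 *
        ((χ : K → ℂ) g / (χ : K → ℂ) 1) ^ (j + 2) * (χ : K → ℂ) z⁻¹‖ = 1 := by
      rw [eq_neg_of_add_eq_zero_right h3, norm_neg, norm_one]
    refine h7.symm.le.trans ((norm_sum_le _ _).trans ((Finset.sum_le_sum h5).trans ?_))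
    rw [← Finset.mul_sum, H588.Ratio.sum_ne_one_norm_sq]
  have h7 : (s / d) ^ j * (C - 1) < (s / d) ^ j * s ^ 2 := by
    apply mul_lt_mul_of_pos_left _ (by positivity)
    rw [hs2]
    linarith
  have h8 : (d : ℝ) ^ j < s ^ (j + 2) := by
    have h9 := lt_of_le_of_lt h6 h7
    rw [div_pow, div_mul_eq_mul_div, lt_div_iff₀ (by positivity), one_mul, ← pow_add] at h9
    exact h9
  have h9 : ((d : ℝ) ^ j) ^ 2 < (s ^ (j + 2)) ^ 2 := pow_lt_pow_left₀ h8 (by positivity) (by norm_num)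
  rw [← pow_mul, ← pow_mul, mul_comm (j + 2) 2, pow_mul s, hs2, mul_comm j 2] at h9
  have h10 : d ^ (2 * j) < c ^ (j + 2) := by exact_mod_cast h9
  omega

theorem prod_mem_closure {K : Type*} [Group K] {g : K} {k : ℕ} (f : Fin k → K) :
    MulAut.conj (List.ofFn fun i => f i * g * (f i)⁻¹).prod ∈
      closure (Set.range fun i => cj (MulAut.conj g) (f i)) := by
  rw [map_list_prod]
  refine Subgroup.list_prod_mem _ ?_
  intro x hx
  obtain ⟨y, hy, rfl⟩ := List.mem_map.1 hx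
  obtain ⟨i, rfl⟩ := (List.mem_ofFn' _ _).1 hy
  exact subset_closure ⟨i, cj_conj g (f i)⟩

theorem ni_of_cov {K : Type u} [Group K] [Finite K] [IsSimpleGroup K] (hK : ¬ IsMulCommutative K) {s p q c k : ℕ}
    (hs : s.Prime) (hsK : s ∣ Nat.card K) (hq : q.Prime) (hq3 : 3 ≤ q) (Q : Sylow q K) (hQ : IsCyclic Q)
    (hL : 2 * Nat.card K ≠ q * (q ^ 2 - 1)) (hc : ∀ g : K, orderOf g = p → Nat.card (centralizer ({g} : Set K)) ≤ c)
    (hk2 : 2 ≤ k) (hk : k ≤ 11) (hck : c ^ k < (Nat.card Q - 2) ^ (2 * (k - 2))) : NI s p K := by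
  intro g hg _ hFC
  have : Fact s.Prime := ⟨hs⟩
  have : Fact q.Prime := ⟨hq⟩
  obtain ⟨z, hz⟩ := exists_prime_orderOf_dvd_card' s hsK
  obtain ⟨f, hf⟩ := exists_eq_prod_conj (d := Nat.card Q - 2) (c := c) (k := k) (g := g) (fun χ hχ h1 => by
    rcases Cfsg.Agent.S2351.result hK Q hQ χ hχ h1 with ⟨F, _, _, hF, ⟨e⟩⟩ | ⟨d, hd, hd2⟩
    · exfalso
      apply hL
      have hodd : Odd q := hq.odd_of_ne_two (by omega)
      have h1 := H680.Six.psl2_card (F := F)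
      rw [hF, ← Nat.card_congr e.toEquiv] at h1
      have h2 : Nat.gcd 2 (q - 1) = 2 := by
        apply Nat.gcd_eq_left
        obtain ⟨m, hm⟩ := hodd
        exact ⟨m, by omega⟩
      rw [h2] at h1
      exact h1
    · exact ⟨d, hd, by omega⟩) (hc g hg) hk2 hck z
  have h1 : Cfsg.Agent.H216.Pi.InC k (MulAut.conj g) (MulAut.conj z) := ⟨f, by rw [hf]; exact prod_mem_closure f⟩
  have h2 := hFC _ (h1.mono (hk.trans (mm_ge s)))
  apply h2
  have hcen : center K = ⊥ := by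
    rcases (inferInstance : (center K).Normal).eq_bot_or_eq_top with h | h
    · exact h
    · exact (hK ⟨⟨fun a b => ((Subgroup.mem_center_iff.1 (h ▸ Subgroup.mem_top b : b ∈ center K)) a)⟩⟩).elim
  rw [orderOf_injective (MulAut.conj : K →* MulAut K) (conj_inj hcen), hz]

end Cfsg.Agent.H96.PiSpor
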